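import Mathlib
import Cfsg.Agent.BaerSuzuki.Basic
import Cfsg.Agent.Constrained.Basic
import Cfsg.Agent.Solvable.SchurZassenhaus

/-!
A finite group in which no nontrivial element of odd order is inverted has a normal Sylow
2-subgroup.
-/

set_option autoImplicit false

namespace CfsgLib.NoInversion

universe u

/-- No nontrivial element of odd order is conjugate to its inverse. -/
def NoInv (G : Type u) [Group G] : Prop :=
  ∀ x g : G, Odd (orderOf x) → g * x * g⁻¹ = x⁻¹ → x = 1

theorem NoInv.quotient {G : Type u} [Group G] [Finite G] (h : NoInv G) :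
    NoInv (G ⧸ Cfsg.pCore 2 G) := by
  set T := Cfsg.pCore 2 G
  obtain ⟨e, he⟩ := IsPGroup.iff_card.mp (CfsgLib.Constrained.isPGroup_pCore (p := 2) (G := G))
  intro xb gb hodd hinv
  obtain ⟨a, rfl⟩ := QuotientGroup.mk'_surjective T xb
  obtain ⟨g, rfl⟩ := QuotientGroup.mk'_surjective T gb
  set f := QuotientGroup.mk' T
  obtain ⟨k, j, hj, hkj⟩ := Nat.exists_eq_two_pow_mul_odd (orderOf_pos a).ne'
  obtain ⟨i, hi⟩ := exists_pow_eq_self_of_coprime (x := f a) (n := 2 ^ k)
    (Nat.Coprime.pow_left k (Nat.coprime_two_left.mpr hodd))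
  set x := (a ^ 2 ^ k) ^ i with hx
  have hfx : f x = f a := by rw [hx, map_pow, map_pow, hi]
  have hxo : orderOf x ∣ j := orderOf_dvd_of_pow_eq_one (by
    rw [hx, ← pow_mul, ← pow_mul, show 2 ^ k * (i * j) = 2 ^ k * j * i by ring, pow_mul, ← hkj,
      pow_orderOf_eq_one, one_pow])
  have hxodd : Odd (orderOf x) := hj.of_dvd_nat hxo
  have hTc : Nat.Coprime (orderOf x) (Nat.card T) := by
    rw [he]; exact Nat.Coprime.pow_right e (Nat.coprime_two_right.mpr hxodd)
  rw [← hfx] at hinv ⊢
  set y := g * x * g⁻¹ with hy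
  have hyo : orderOf y = orderOf x := orderOf_injective (MulAut.conj g).toMonoidHom (MulAut.conj g).injective x
  have hfy : f y = (f x)⁻¹ := by rw [hy, map_mul, map_mul, map_inv, hinv]
  have hmem : ∀ u v : G, f u ∈ Subgroup.zpowers (f v) → u ∈ Subgroup.zpowers v ⊔ T := by
    intro u v huv
    obtain ⟨n, hn⟩ := Subgroup.mem_zpowers_iff.mp huv
    have h1 : (v ^ n)⁻¹ * u ∈ T := by
      rw [← QuotientGroup.eq_one_iff (N := T)]
      show f ((v ^ n)⁻¹ * u) = 1
      rw [map_mul, map_inv, map_zpow, hn, inv_mul_cancel]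
    have := Subgroup.mul_mem (Subgroup.zpowers v ⊔ T)
      (Subgroup.mem_sup_left (Subgroup.zpow_mem_zpowers v n)) (Subgroup.mem_sup_right h1)
    simpa using this
  have hsup : Subgroup.zpowers y ⊔ T = Subgroup.zpowers x ⊔ T := by
    refine le_antisymm (sup_le (Subgroup.zpowers_le.mpr (hmem y x ?_)) le_sup_right)
      (sup_le (Subgroup.zpowers_le.mpr (hmem x y ?_)) le_sup_right)
    · rw [hfy]; exact Subgroup.inv_mem _ (Subgroup.mem_zpowers _)
    · rw [hfy, Subgroup.zpowers_inv]; exact Subgroup.mem_zpowers _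
  obtain ⟨l, hl, hconj⟩ := CfsgLib.Solvable.exists_conj_of_sup_eq T (Subgroup.zpowers y) (Subgroup.zpowers x) hsup
    (by rw [Nat.card_zpowers, hyo]; exact hTc) (by rw [Nat.card_zpowers]; exact hTc) (Or.inr inferInstance)
  have h1 : l * y * l⁻¹ ∈ Subgroup.zpowers x := by
    rw [← hconj, CfsgLib.Solvable.conj_smul_eq_map]; exact ⟨y, Subgroup.mem_zpowers y, rfl⟩
  obtain ⟨n, hn⟩ := Subgroup.mem_zpowers_iff.mp h1
  have hfl : f l = 1 := (QuotientGroup.eq_one_iff l).mpr hl
  have h2 : x ^ (n + 1) ∈ T ⊓ Subgroup.zpowers x := by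
    refine Subgroup.mem_inf.mpr ⟨?_, Subgroup.zpow_mem_zpowers x _⟩
    rw [← QuotientGroup.eq_one_iff (N := T)]
    show f (x ^ (n + 1)) = 1
    rw [zpow_add_one, map_mul, hn, map_mul, map_mul, map_inv, hfl, hfy]
    simp
  have hbot : T ⊓ Subgroup.zpowers x = ⊥ :=
    Subgroup.inf_eq_bot_of_coprime (by rw [Nat.card_zpowers]; exact hTc.symm)
  rw [hbot, Subgroup.mem_bot, zpow_add_one, mul_eq_one_iff_eq_inv] at h2
  have h3 : (l * g) * x * (l * g)⁻¹ = x⁻¹ := by
    rw [← h2, hn, hy]; group
  rw [h x (l * g) hxodd h3, map_one]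

theorem sylow_normal_aux (n : ℕ) : ∀ (G : Type u) [Group G] [Finite G], Nat.card G ≤ n → NoInv G →
    ∀ P : Sylow 2 G, (P : Subgroup G).Normal := by
  induction n with
  | zero => intro G _ _ h; have := Nat.card_pos (α := G); omega
  | succ n ih =>
    intro G _ _ hn hG P
    set T := Cfsg.pCore 2 G
    by_cases hT : T = ⊥
    · by_cases h2 : 2 ∣ Nat.card G
      · obtain ⟨t, ht⟩ := exists_prime_orderOf_dvd_card' 2 h2
        have hnot : t ∉ T := by
          rw [hT, Subgroup.mem_bot]; rintro rfl; rw [orderOf_one] at ht; omega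
        obtain ⟨h, hh1, hhodd, hinv⟩ := CfsgLib.BaerSuzuki.involution_inverts_odd ht hnot
        exact absurd (hG h t hhodd hinv) hh1
      · have : (P : Subgroup G) = ⊥ := by
          rw [← Subgroup.card_eq_one]
          rw [Sylow.card_eq_multiplicity, Nat.factorization_eq_zero_of_not_dvd h2, pow_zero]
        rw [this]; infer_instance
    · have hlt : Nat.card (G ⧸ T) < Nat.card G := by
        rw [Subgroup.card_eq_card_quotient_mul_card_subgroup T]
        exact lt_mul_of_one_lt_right Nat.card_pos ((Subgroup.one_lt_card_iff_ne_bot _).mpr hT)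
      have h1 := ih (G ⧸ T) (by omega) hG.quotient (P.mapSurjective (QuotientGroup.mk'_surjective T))
      rw [Sylow.coe_mapSurjective] at h1
      have h2 := h1.comap (QuotientGroup.mk' T)
      rwa [Subgroup.comap_map_eq, QuotientGroup.ker_mk',
        sup_eq_left.2 ((CfsgLib.Constrained.isPGroup_pCore (p := 2) (G := G)).le_sylow_of_normal P)] at h2

/-- No inverted nontrivial element of odd order implies a normal Sylow 2-subgroup. -/
theorem sylow_normal {G : Type u} [Group G] [Finite G] (h : NoInv G) (P : Sylow 2 G) :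
    (P : Subgroup G).Normal :=
  sylow_normal_aux (Nat.card G) G le_rfl h P

end CfsgLib.NoInversion
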